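import Cfsg.Agent.InvNorm.Basic
import Cfsg.Agent.FieldEmb.Basic
import Cfsg.Prelude.Def_LieClassical

/-!
# Conjugate transpose over `F_{q²}`, membership of `GU`
-/

namespace CfsgLib.InvNorm

open Matrix

variable {K : Type*} [Field K] {n : ℕ}

/-- Conjugate transpose for a ring endomorphism. -/
def tau (σ : K →+* K) (M : Matrix (Fin n) (Fin n) K) : Matrix (Fin n) (Fin n) K := (M.map σ)ᵀ

lemma tau_add (σ : K →+* K) (M N : Matrix (Fin n) (Fin n) K) :
    tau σ (M + N) = tau σ M + tau σ N := by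
  ext i j; simp [tau]

lemma tau_mul (σ : K →+* K) (M N : Matrix (Fin n) (Fin n) K) :
    tau σ (M * N) = tau σ N * tau σ M := by
  simp [tau, Matrix.map_mul]

lemma tau_one (σ : K →+* K) : tau σ (1 : Matrix (Fin n) (Fin n) K) = 1 := by
  simp [tau]

lemma tau_tau {σ : K →+* K} (h : ∀ x, σ (σ x) = x) (M : Matrix (Fin n) (Fin n) K) :
    tau σ (tau σ M) = M := by
  ext i j; simp [tau, h]

lemma tau_scalar (σ : K →+* K) (a : K) :
    tau σ (Matrix.scalar (Fin n) a) = Matrix.scalar (Fin n) (σ a) := by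
  simp [tau, Matrix.scalar, Matrix.diagonal_map]

lemma isUnit_tau {σ : K →+* K} {M : Matrix (Fin n) (Fin n) K} (h : IsUnit M) :
    IsUnit (tau σ M) := by
  obtain ⟨N, hN⟩ := h.exists_left_inv
  exact IsUnit.of_mul_eq_one _ (by rw [← tau_mul, hN, tau_one])

theorem mem_GU_iff {q : ℕ} {σ : K →+* K} (hσ : ∀ x, σ x = x ^ q) (hσσ : ∀ x, σ (σ x) = x)
    (A : GL (Fin n) K) :
    A ∈ Cfsg.GU n K q ↔ tau σ (A : Matrix (Fin n) (Fin n) K) * A = 1 := by
  set M : Matrix (Fin n) (Fin n) K := ↑A
  have hform : ∀ u v : Fin n → K, Cfsg.hermForm n K q u v = u ⬝ᵥ fun i => σ (v i) := by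
    intro u v
    simp [Cfsg.hermForm, dotProduct, hσ]
  have hmem : A ∈ Cfsg.GU n K q ↔ ∀ u v : Fin n → K,
      u ⬝ᵥ ((Mᵀ * M.map σ) *ᵥ fun i => σ (v i)) = u ⬝ᵥ fun i => σ (v i) := by
    refine forall₂_congr fun u v => ?_
    show Cfsg.hermForm n K q (M *ᵥ u) (M *ᵥ v) = Cfsg.hermForm n K q u v ↔ _
    rw [hform, hform, ← Matrix.mulVec_mulVec, dotProduct_mulVec u Mᵀ, vecMul_transpose,
      show (fun i => σ ((M *ᵥ v) i)) = M.map σ *ᵥ fun i => σ (v i) from
        funext fun i => RingHom.map_mulVec σ M v i]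
  rw [hmem]
  have htau : tau σ M * M = (Mᵀ * M.map σ).map σ := by
    rw [Matrix.map_mul, Matrix.transpose_map]
    simp [tau, Matrix.map_map, Function.comp_def, hσσ]
  rw [htau]
  constructor
  · intro h
    have h1 : Mᵀ * M.map σ = 1 := by
      ext i j
      have := h (Pi.single i 1) (Pi.single j 1)
      rw [show (fun k => σ ((Pi.single j 1 : Fin n → K) k)) = Pi.single j 1 from
        funext fun k => by
          rcases eq_or_ne k j with rfl | hk
          · simp
          · simp [hk],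
        mulVec_single_one] at this
      simpa [Matrix.one_apply, Pi.single_apply, eq_comm] using this
    rw [h1]; simp
  · intro h u v
    have h1 : Mᵀ * M.map σ = 1 := by
      have := congrArg (Matrix.map · σ) h
      simpa [Matrix.map_map, Function.comp_def, hσσ] using this
    rw [h1, one_mulVec]

variable [Fintype K]

/-- A scalar with `a - σ a` a unit. -/
theorem exists_lam {q : ℕ} {σ : K →+* K} (hσ : ∀ x, σ x = x ^ q)
    (hK : Fintype.card K = q ^ 2) :
    ∃ a : K, IsUnit (Matrix.scalar (Fin n) a - tau σ (Matrix.scalar (Fin n) a)) := by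
  have hq : 1 < q := by
    have h1 : 1 < q ^ 2 := hK ▸ Fintype.one_lt_card
    by_contra h
    interval_cases q <;> simp at h1
  obtain ⟨a, ha⟩ : ∃ a : K, σ a ≠ a := by
    by_contra hall
    push Not at hall
    classical
    let P : Polynomial K := Polynomial.X ^ q - Polynomial.X
    have hne : P ≠ 0 := FiniteField.X_pow_card_sub_X_ne_zero K hq
    have hsub : (Finset.univ : Finset K) ⊆ P.roots.toFinset := by
      intro a _
      rw [Multiset.mem_toFinset, Polynomial.mem_roots hne]
      simp [P, Polynomial.IsRoot, ← hσ, hall a]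
    have := (Finset.card_le_card hsub).trans (P.roots.toFinset_card_le.trans
      ((Polynomial.card_roots' P).trans (le_of_eq (FiniteField.X_pow_card_sub_X_natDegree_eq K hq))))
    rw [Finset.card_univ, hK] at this
    nlinarith
  refine ⟨a, ?_⟩
  rw [tau_scalar, ← map_sub]
  exact (isUnit_iff_ne_zero.2 (sub_ne_zero.2 (Ne.symm ha))).map _

lemma scalar_comm (a : K) (M : Matrix (Fin n) (Fin n) K) :
    Matrix.scalar (Fin n) a * M = M * Matrix.scalar (Fin n) a :=
  Matrix.scalar_comm a (fun r => Commute.all a r) M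

/-- Scalars together with some extra elements. -/
def scalarsAnd (X : Set (Matrix (Fin n) (Fin n) K)) : Set (Matrix (Fin n) (Fin n) K) :=
  Set.range (Matrix.scalar (Fin n)) ∪ X

lemma scalarsAnd_comm {X : Set (Matrix (Fin n) (Fin n) K)}
    (hX : ∀ a ∈ X, ∀ b ∈ X, a * b = b * a) :
    ∀ a ∈ scalarsAnd X, ∀ b ∈ scalarsAnd X, a * b = b * a := by
  rintro a (⟨r, rfl⟩ | ha) b hb
  · exact scalar_comm r b
  · rcases hb with ⟨s, rfl⟩ | hb
    · exact (scalar_comm s a).symm
    · exact hX a ha b hb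

lemma closure_commute {A : Matrix (Fin n) (Fin n) K} {X : Set (Matrix (Fin n) (Fin n) K)}
    (hX : ∀ x ∈ X, A * x = x * A) {x : Matrix (Fin n) (Fin n) K}
    (hx : x ∈ Subring.closure (scalarsAnd X)) : A * x = x * A := by
  have : Subring.closure (scalarsAnd X) ≤ Subring.centralizer {A} := by
    rw [Subring.closure_le]
    rintro y (⟨r, rfl⟩ | hy)
    · exact Subring.mem_centralizer_iff.2 fun g hg => by
        rw [Set.mem_singleton_iff.1 hg]; exact (scalar_comm r A).symm
    · exact Subring.mem_centralizer_iff.2 fun g hg => by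
        rw [Set.mem_singleton_iff.1 hg]; exact hX y hy
  exact Subring.mem_centralizer_iff.1 (this hx) A rfl

end CfsgLib.InvNorm
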