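import Cfsg.Agent.InvNorm.Corner

/-!
# Conjugating semisimple isometries: from `GL`-conjugacy to an intertwiner which is isometric away
from the `±1`-eigenspaces

`J` is the Gram matrix of a form, `adj J` its adjoint; an isometry `A` satisfies `adj J A * A = 1`.
`proj N A` is the projection onto the kernel of `A² - 1` when `(A²)^N = 1` and `N` is invertible.
-/

namespace CfsgLib.InvNorm

open Matrix

variable {F : Type*} [Field F] {ι : Type*} [Fintype ι] [DecidableEq ι]

/-- The adjoint of `M` for the form with Gram matrix `J`. -/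
noncomputable def adj (J M : Matrix ι ι F) : Matrix ι ι F := J⁻¹ * Mᵀ * J

variable {J : Matrix ι ι F}

lemma adj_add (M N : Matrix ι ι F) : adj J (M + N) = adj J M + adj J N := by
  simp [adj, mul_add, add_mul]

lemma adj_one (hJ : IsUnit J.det) : adj J 1 = 1 := by
  simp [adj, nonsing_inv_mul _ hJ]

lemma adj_mul (hJ : IsUnit J.det) (M N : Matrix ι ι F) :
    adj J (M * N) = adj J N * adj J M := by
  simp only [adj, transpose_mul, mul_assoc]
  rw [mul_nonsing_inv_cancel_left _ _ hJ]

lemma adj_adj (hJ : IsUnit J.det) {ε : F} (hε : ε * ε = 1) (hT : Jᵀ = ε • J) (M : Matrix ι ι F) :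
    adj J (adj J M) = M := by
  have hi : (J⁻¹)ᵀ = ε • J⁻¹ := by
    rw [transpose_nonsing_inv, hT]
    refine Matrix.inv_eq_right_inv ?_
    rw [smul_mul_smul_comm, hε, one_smul, mul_nonsing_inv _ hJ]
  simp only [adj, transpose_mul, transpose_transpose, hi, hT, smul_mul_assoc, mul_smul_comm,
    smul_smul, hε, one_smul]
  simp only [mul_assoc, nonsing_inv_mul _ hJ, mul_one, nonsing_inv_mul_cancel_left _ _ hJ]

lemma form_adj (hJ : IsUnit J.det) (M : Matrix ι ι F) (u v : ι → F) :
    (M *ᵥ u) ⬝ᵥ J *ᵥ v = u ⬝ᵥ J *ᵥ (adj J M *ᵥ v) := by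
  rw [mulVec_mulVec, adj, ← mul_assoc, mul_nonsing_inv_cancel_left _ _ hJ, ← mulVec_mulVec,
    dotProduct_mulVec u Mᵀ, vecMul_transpose]

lemma adj_mul_self_of_isometry (hJ : IsUnit J.det) {A : Matrix ι ι F} (hA : Aᵀ * J * A = J) :
    adj J A * A = 1 := by
  rw [adj, mul_assoc J⁻¹, mul_assoc J⁻¹, hA, nonsing_inv_mul _ hJ]

/-- The average of the powers of `A²`. -/
noncomputable def proj (N : ℕ) (A : Matrix ι ι F) : Matrix ι ι F :=
  (N : F)⁻¹ • ∑ i ∈ Finset.range N, (A * A) ^ i

section Proj

variable {N : ℕ} {A : Matrix ι ι F}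

lemma sq_mul_proj (hA : (A * A) ^ N = 1) : A * A * proj N A = proj N A := by
  have h := mul_geom_sum (A * A) N
  rw [hA, sub_self, sub_mul, one_mul, sub_eq_zero] at h
  rw [proj, mul_smul_comm, h]

lemma proj_mulVec_of_fixed (hN : (N : F) ≠ 0) {x : ι → F} (hx : (A * A) *ᵥ x = x) :
    proj N A *ᵥ x = x := by
  have h : ∀ i : ℕ, ((A * A) ^ i) *ᵥ x = x := by
    intro i
    induction i with
    | zero => simp
    | succ i ih => rw [pow_succ, ← mulVec_mulVec, hx, ih]
  rw [proj, smul_mulVec, sum_mulVec, Finset.sum_congr rfl fun i _ => h i, Finset.sum_const,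
    Finset.card_range, ← Nat.cast_smul_eq_nsmul F, smul_smul, inv_mul_cancel₀ hN, one_smul]

lemma proj_mul_proj (hN : (N : F) ≠ 0) (hA : (A * A) ^ N = 1) :
    proj N A * proj N A = proj N A := by
  refine Matrix.ext_iff_mulVec.2 fun x => ?_
  rw [← mulVec_mulVec, proj_mulVec_of_fixed hN (by rw [mulVec_mulVec, sq_mul_proj hA])]

lemma sq_mulVec_of_proj (hA : (A * A) ^ N = 1) {x : ι → F} (hx : proj N A *ᵥ x = x) :
    (A * A) *ᵥ x = x := by
  rw [← hx, mulVec_mulVec, sq_mul_proj hA]

lemma commute_proj {X : Matrix ι ι F} (hX : Commute X A) : Commute X (proj N A) := by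
  rw [proj]
  exact (Commute.sum_right _ _ _ fun i _ => (hX.mul_right hX).pow_right i).smul_right _

lemma adj_proj (hJ : IsUnit J.det) {ε : F} (hε : ε * ε = 1) (hT : Jᵀ = ε • J)
    (hN : (N : F) ≠ 0) (hA : (A * A) ^ N = 1) (hiso : adj J A * A = 1) :
    adj J (proj N A) = proj N A := by
  have hiso' : A * adj J A = 1 := mul_eq_one_comm.1 hiso
  have h1 : adj J (proj N A) * (adj J A * adj J A) = adj J (proj N A) := by
    rw [← adj_mul hJ, ← adj_mul hJ, sq_mul_proj hA]
  have h2 : adj J (proj N A) * (A * A) = adj J (proj N A) := by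
    conv_lhs => rw [← h1]
    rw [mul_assoc, show adj J A * adj J A * (A * A) = 1 by
      rw [mul_assoc, ← mul_assoc (adj J A) A A, hiso, one_mul, hiso], mul_one]
  have h3 : ∀ i, adj J (proj N A) * (A * A) ^ i = adj J (proj N A) := by
    intro i
    induction i with
    | zero => rw [pow_zero, mul_one]
    | succ i ih => rw [pow_succ, ← mul_assoc, ih, h2]
  have h4 : adj J (proj N A) * proj N A = adj J (proj N A) := by
    conv_lhs => arg 2; rw [proj]
    rw [mul_smul_comm, Finset.mul_sum, Finset.sum_congr rfl fun i _ => h3 i, Finset.sum_const,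
      Finset.card_range, ← Nat.cast_smul_eq_nsmul F, smul_smul, inv_mul_cancel₀ hN, one_smul]
  have h5 := congrArg (adj J) h4
  rw [adj_mul hJ, adj_adj hJ hε hT, h4] at h5
  exact h5

/-- `A - adj A` is a unit away from the `±1`-eigenspaces. -/
lemma isUnit_sub_adj (hN : (N : F) ≠ 0) (hA : (A * A) ^ N = 1) (hiso : adj J A * A = 1) :
    IsUnit ((A - adj J A) * (1 - proj N A) + proj N A) := by
  rw [← Matrix.mulVec_injective_iff_isUnit]
  intro x y hxy
  rw [← sub_eq_zero, ← mulVec_sub] at hxy
  rw [← sub_eq_zero]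
  set z := x - y
  set P := proj N A with hP
  have hPA : A * P = P * A := commute_proj (Commute.refl A)
  have hPτ : adj J A * P = P * adj J A := by
    have hc : Commute (adj J A) A := hiso.trans (mul_eq_one_comm.1 hiso).symm
    exact commute_proj hc
  have hz0 : P *ᵥ z = 0 := by
    have h := congrArg (P *ᵥ ·) hxy
    simp only [mulVec_zero, mulVec_mulVec] at h
    have e : P * ((A - adj J A) * (1 - P) + P) = P := by
      rw [mul_add, proj_mul_proj hN hA, ← mul_assoc, mul_sub P A, ← hPA, ← hPτ, ← sub_mul,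
        mul_assoc, mul_sub, mul_one, proj_mul_proj hN hA, sub_self, mul_zero, zero_add]
    rwa [e] at h
  rw [add_mulVec, hz0, add_zero, ← mulVec_mulVec,
    show (1 - P) *ᵥ z = z by rw [sub_mulVec, one_mulVec, hz0, sub_zero],
    sub_mulVec, sub_eq_zero] at hxy
  have h2 : (A * A) *ᵥ z = z := by
    rw [← mulVec_mulVec, hxy, mulVec_mulVec, mul_eq_one_comm.1 hiso, one_mulVec]
  rw [← proj_mulVec_of_fixed hN h2, hz0]

end Proj

/-- **Main lemma.** `GL`-conjugate isometries admit an intertwiner which is isometric on the kernel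
of `proj N A`, that is, away from the `±1`-eigenspaces. -/
theorem exists_intertwiner [Finite F] (hJ : IsUnit J.det) {ε : F} (hε : ε * ε = 1)
    (hT : Jᵀ = ε • J) {A B G : Matrix ι ι F} (hA : Aᵀ * J * A = J) (hB : Bᵀ * J * B = J)
    (hG : IsUnit G) (hGA : G * A = B * G) {N : ℕ} (hN : (N : F) ≠ 0) (hAN : (A * A) ^ N = 1) :
    ∃ U : Matrix ι ι F, IsUnit U ∧ U * A = B * U ∧
      ∀ x y, proj N A *ᵥ y = 0 → (U *ᵥ x) ⬝ᵥ J *ᵥ (U *ᵥ y) = x ⬝ᵥ J *ᵥ y := by
  have hA1 := adj_mul_self_of_isometry hJ hA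
  have hB1 := adj_mul_self_of_isometry hJ hB
  have hA2 : A * adj J A = 1 := mul_eq_one_comm.1 hA1
  set P := proj N A with hP
  have hPP : P * P = P := proj_mul_proj hN hAN
  have hτP : adj J P = P := adj_proj hJ hε hT hN hAN hA1
  set h := adj J G * G with hh
  have hfix : adj J h = h := by rw [hh, adj_mul hJ, adj_adj hJ hε hT]
  have hadjG : IsUnit (adj J G) := by
    obtain ⟨G', hG'⟩ := hG.exists_left_inv
    exact IsUnit.of_mul_eq_one _ (by rw [← adj_mul hJ, hG', adj_one hJ])
  have hhu : IsUnit h := hadjG.mul hG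
  have hinvA : adj J A * h * A = h := by
    calc adj J A * h * A = adj J (G * A) * (G * A) := by
          rw [hh, adj_mul hJ]; simp only [mul_assoc]
      _ = adj J G * (adj J B * B) * G := by rw [hGA, adj_mul hJ]; simp only [mul_assoc]
      _ = h := by rw [hB1, mul_one, hh]
  have hcA : Commute h A := by
    calc h * A = A * adj J A * h * A := by rw [hA2, one_mul]
      _ = A * (adj J A * h * A) := by simp only [mul_assoc]
      _ = A * h := by rw [hinvA]
  have hcτ : Commute h (adj J A) := by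
    calc h * adj J A = adj J A * A * h * adj J A := by rw [hA1, one_mul]
      _ = adj J A * (h * A) * adj J A := by rw [hcA.eq, mul_assoc (adj J A) A h]
      _ = adj J A * h := by rw [mul_assoc, mul_assoc, hA2, mul_one]
  have hcP : Commute h P := commute_proj hcA
  have hAP : Commute A P := commute_proj (Commute.refl A)
  have hτAP : Commute (adj J A) P := commute_proj (hA1.trans hA2.symm)
  set S : Set (Matrix ι ι F) := {A, adj J A, P, h}
  have hS : ∀ a ∈ S, ∀ b ∈ S, a * b = b * a := by
    rintro a (rfl | rfl | rfl | rfl) b (rfl | rfl | rfl | rfl)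
    exacts [rfl, hA2.trans hA1.symm, hAP, hcA.symm, hA1.trans hA2.symm, rfl, hτAP, hcτ.symm,
      hAP.symm, hτAP.symm, rfl, hcP.symm, hcA, hcτ, hcP, rfl]
  have mA : A ∈ Subring.closure S := Subring.subset_closure (Or.inl rfl)
  have mτ : adj J A ∈ Subring.closure S := Subring.subset_closure (Or.inr (Or.inl rfl))
  have mP : P ∈ Subring.closure S := Subring.subset_closure (Or.inr (Or.inr (Or.inl rfl)))
  have mh : h ∈ Subring.closure S := Subring.subset_closure (Or.inr (Or.inr (Or.inr rfl)))
  set h' := P + (1 - P) * h with hh'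
  have hh'u : IsUnit h' := by
    obtain ⟨k, hk⟩ := hhu.exists_right_inv
    have hk' : k * h = 1 := mul_eq_one_comm.1 hk
    have hkP : Commute k P := by
      calc k * P = k * P * (h * k) := by rw [hk, mul_one]
        _ = k * (h * P) * k := by rw [hcP.eq]; simp only [mul_assoc]
        _ = P * k := by rw [← mul_assoc k h, hk', one_mul]
    refine IsUnit.of_mul_eq_one (P + (1 - P) * k) ?_
    have e1 : P * (1 - P) = 0 := by rw [mul_sub, mul_one, hPP, sub_self]
    have e2 : (1 - P) * P = 0 := by rw [sub_mul, one_mul, hPP, sub_self]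
    have e3 : (1 - P) * (1 - P) = 1 - P := by rw [mul_sub (1 - P), mul_one, e2, sub_zero]
    have c1 : h * (1 - P) = (1 - P) * h := ((Commute.one_right h).sub_right hcP).eq
    rw [hh', add_mul, mul_add, mul_add, hPP, ← mul_assoc P, e1, zero_mul, add_zero,
      mul_assoc _ h P, hcP.eq, ← mul_assoc _ P h, e2, zero_mul, zero_add,
      mul_assoc _ h, ← mul_assoc h, c1, mul_assoc _ h k, hk, mul_one, e3, add_sub_cancel]
  have hh'fix : adj J h' = h' := by
    have : adj J (1 - P) = 1 - P := by
      have := adj_add (J := J) (1 - P) P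
      rw [sub_add_cancel, adj_one hJ, hτP] at this
      exact (eq_sub_of_add_eq this.symm)
    rw [hh', adj_add, hτP, adj_mul hJ, hfix, this, ((Commute.one_right h).sub_right hcP).eq]
  have hh'P : h' * P = P := by
    rw [hh', add_mul, hPP, mul_assoc, hcP.eq, ← mul_assoc, sub_mul, one_mul, hPP, sub_self,
      zero_mul, add_zero]
  have mh' : h' ∈ Subring.closure S :=
    add_mem mP (mul_mem (sub_mem (one_mem _) mP) mh)
  obtain ⟨c, hcS, hcu, -, hch⟩ := exists_norm_eq_of_anti_idem (adj J) adj_add (adj_mul hJ)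
    (adj_one hJ) S hS
    (by
      rintro a (rfl | rfl | rfl | rfl)
      · exact mτ
      · rw [adj_adj hJ hε hT]; exact mA
      · rw [hτP]; exact mP
      · rw [hfix]; exact mh)
    (fun a _ => adj_adj hJ hε hT a) mP hPP hτP mA (isUnit_sub_adj hN hAN hA1) mh' hh'u hh'fix hh'P
  have hcomm_c : ∀ X : Matrix ι ι F, (∀ a ∈ S, X * a = a * X) → X * c = c * X := by
    intro X hX
    have hle : Subring.closure S ≤ Subring.centralizer {X} := by
      rw [Subring.closure_le]
      intro y hy
      exact Subring.mem_centralizer_iff.2 fun g hg => by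
        rw [Set.mem_singleton_iff.1 hg]; exact hX y hy
    exact Subring.mem_centralizer_iff.1 (hle hcS) X rfl
  have hcA' : Commute A c := hcomm_c A fun a ha => hS A (Or.inl rfl) a ha
  have hcP' : Commute P c := hcomm_c P fun a ha => hS P (Or.inr (Or.inr (Or.inl rfl))) a ha
  obtain ⟨D, hD⟩ := hcu.exists_right_inv
  have hD' : D * c = 1 := mul_eq_one_comm.1 hD
  have hDu : IsUnit D := IsUnit.of_mul_eq_one _ hD'
  have hDA : Commute A D := by
    calc A * D = D * c * (A * D) := by rw [hD', one_mul]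
      _ = D * (A * c) * D := by rw [hcA'.eq]; simp only [mul_assoc]
      _ = D * A := by rw [mul_assoc, mul_assoc, hD, mul_one]
  refine ⟨G * D, hG.mul hDu, ?_, fun x y hy => ?_⟩
  · rw [mul_assoc, ← hDA.eq, ← mul_assoc, hGA, mul_assoc]
  · rw [form_adj hJ, mulVec_mulVec (M := adj J (G * D))]
    congr 2
    have hPD : Commute P D := by
      calc P * D = D * c * (P * D) := by rw [hD', one_mul]
        _ = D * (P * c) * D := by rw [hcP'.eq]; simp only [mul_assoc]
        _ = D * P := by rw [mul_assoc, mul_assoc, hD, mul_one]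
    have hzy : P *ᵥ (D *ᵥ y) = 0 := by
      rw [mulVec_mulVec, hPD.eq, ← mulVec_mulVec, hy, mulVec_zero]
    have hhy : h *ᵥ (D *ᵥ y) = h' *ᵥ (D *ᵥ y) := by
      rw [hh', add_mulVec, hzy, zero_add, sub_mul, one_mul, sub_mulVec, ← hcP.eq,
        ← mulVec_mulVec _ h P, hzy, mulVec_zero, sub_zero]
    rw [adj_mul hJ, show adj J D * adj J G * (G * D) = adj J D * h * D by
      rw [hh]; simp only [mul_assoc], ← mulVec_mulVec, ← mulVec_mulVec, hhy, ← hch,
      mulVec_mulVec, mulVec_mulVec, ← mul_assoc (adj J D) (adj J c) c, ← adj_mul hJ, hD,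
      adj_one hJ,
      one_mul, hD, one_mulVec]

end CfsgLib.InvNorm
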