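import Mathlib

/-!
# Norms in finite commutative rings with an involution

If `R` is a finite commutative ring with an involution `σ` and some `λ - σ λ` is a unit, then
every `σ`-fixed unit is of the form `c * σ c`, and (Hilbert 90) every `c` with `c * σ c = 1`
admits `x` with `x + c * σ x` a unit.

The second half of the file transfers this to a commutative subring of a ring carrying an
anti-automorphism.
-/

namespace CfsgLib.InvNorm

section Commutative

variable {R : Type*} [CommRing R] [Finite R]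

/-- Hilbert 90, unit form. -/
theorem exists_isUnit_add (σ : R ≃+* R) (hσ : ∀ x, σ (σ x) = x) {lam : R}
    (hlam : IsUnit (lam - σ lam)) {c : R} (hc : c * σ c = 1) :
    ∃ x : R, IsUnit (x + c * σ x) := by
  classical
  haveI : Finite (Ideal R) := Finite.of_injective (fun I : Ideal R => (I : Set R)) SetLike.coe_injective
  let M := {P : Ideal R // P.IsMaximal}
  haveI : Fintype M := Fintype.ofFinite M
  -- the conjugate of a maximal ideal
  have hbar : ∀ P : M, (Ideal.comap σ.toRingHom P.1).IsMaximal := fun P =>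
    haveI := P.2
    Ideal.comap_isMaximal_of_surjective _ σ.surjective
  let bar : M → M := fun P => ⟨Ideal.comap σ.toRingHom P.1, hbar P⟩
  have hmem : ∀ (P : M) (r : R), r ∈ (bar P).1 ↔ σ r ∈ P.1 := fun P r => Iff.rfl
  have hbb : ∀ P : M, bar (bar P) = P := fun P => Subtype.ext (Ideal.ext fun r => by
    show σ (σ r) ∈ P.1 ↔ _
    rw [hσ])
  have hpt : ∀ P : M, ∃ t : R, t + c * σ t ∉ P.1 := by
    intro P
    by_contra hall
    push Not at hall
    have h1 := hall 1
    have h2 := hall lam
    rw [map_one, mul_one] at h1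
    have h3 : lam - σ lam ∈ P.1 := by
      have := P.1.sub_mem h2 (P.1.mul_mem_left (σ lam) h1)
      rwa [show lam + c * σ lam - σ lam * (1 + c) = lam - σ lam by ring] at this
    exact P.2.ne_top (Ideal.eq_top_of_isUnit_mem _ h3 hlam)
  choose xP hxP using hpt
  let e := Fintype.equivFin M
  let t : M → R := fun P => if bar P = P then xP P else if e P < e (bar P) then 1 else 0
  have hcu : IsUnit c := IsUnit.of_mul_eq_one _ hc
  have ht : ∀ P : M, t P + c * σ (t (bar P)) ∉ P.1 := by
    intro P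
    by_cases hP : bar P = P
    · rw [hP]
      simp only [t, if_pos hP]
      exact hxP P
    · have hP' : bar (bar P) ≠ bar P := by rw [hbb]; exact Ne.symm hP
      simp only [t, if_neg hP, if_neg hP', hbb]
      rcases lt_trichotomy (e P) (e (bar P)) with h | h | h
      · rw [if_pos h, if_neg h.not_gt, map_zero, mul_zero, add_zero]
        exact fun h1 => P.2.ne_top ((Ideal.eq_top_iff_one _).2 h1)
      · exact absurd (e.injective h).symm hP
      · rw [if_neg h.not_gt, if_pos h, map_one, mul_one, zero_add]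
        exact fun h1 => P.2.ne_top (Ideal.eq_top_of_isUnit_mem _ h1 hcu)
  have hcop : Pairwise (Function.onFun IsCoprime fun P : M => P.1) := fun P Q hPQ =>
    Ideal.isCoprime_iff_sup_eq.2 (P.2.coprime_of_ne Q.2 fun h => hPQ (Subtype.ext h))
  obtain ⟨x, hx⟩ := Ideal.exists_forall_sub_mem_ideal hcop t
  refine ⟨x, ?_⟩
  by_contra hu
  obtain ⟨P, hP, hPx⟩ := exists_max_ideal_of_mem_nonunits hu
  apply ht ⟨P, hP⟩
  have h1 := hx ⟨P, hP⟩
  have h2 : σ (x - t (bar ⟨P, hP⟩)) ∈ P := (hmem ⟨P, hP⟩ _).1 (hx (bar ⟨P, hP⟩))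
  have h3 := P.sub_mem (P.sub_mem hPx h1) (P.mul_mem_left c h2)
  rw [map_sub] at h3
  show t ⟨P, hP⟩ + c * σ (t (bar ⟨P, hP⟩)) ∈ P
  convert h3 using 1
  ring

/-- Every fixed unit is a norm. -/
theorem exists_norm_eq (σ : R ≃+* R) (hσ : ∀ x, σ (σ x) = x) {lam : R}
    (hlam : IsUnit (lam - σ lam)) {h : R} (hh : IsUnit h) (hfix : σ h = h) :
    ∃ c : R, IsUnit c ∧ c * σ c = h := by
  classical
  let s : Rˣ →* Rˣ := Units.map σ.toRingHom.toMonoidHom
  have hs : ∀ u, s (s u) = u := fun u => Units.ext (hσ _)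
  let N : Rˣ →* Rˣ :=
    { toFun := fun u => u * s u
      map_one' := by simp
      map_mul' := fun a b => by simp [mul_mul_mul_comm] }
  let D : Rˣ →* Rˣ :=
    { toFun := fun u => u * (s u)⁻¹
      map_one' := by simp
      map_mul' := fun a b => by rw [map_mul, mul_inv, mul_mul_mul_comm] }
  have hrange : N.range ≤ D.ker := by
    rintro _ ⟨u, rfl⟩
    show u * s u * (s (u * s u))⁻¹ = 1
    rw [map_mul, hs, mul_comm (s u) u, mul_inv_cancel]
  have hker : N.ker = D.range := by
    refine le_antisymm ?_ ?_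
    · intro u hu
      have hu' : (u : R) * σ u = 1 := congrArg Units.val (show u * s u = 1 from hu)
      obtain ⟨x, hx⟩ := exists_isUnit_add σ hσ hlam hu'
      refine ⟨hx.unit, ?_⟩
      show hx.unit * (s hx.unit)⁻¹ = u
      rw [mul_inv_eq_iff_eq_mul]
      apply Units.ext
      show x + (u : R) * σ x = u * σ (x + u * σ x)
      rw [map_add, map_mul, hσ]
      linear_combination (-x) * hu'
    · rintro _ ⟨u, rfl⟩
      show u * (s u)⁻¹ * s (u * (s u)⁻¹) = 1
      rw [map_mul, map_inv, hs, mul_mul_mul_comm, mul_comm (s u)⁻¹ u⁻¹, ← mul_inv,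
        mul_inv_cancel]
  have h1 := N.ker.card_mul_index
  rw [Subgroup.index_ker, hker] at h1
  have h2 := D.ker.card_mul_index
  rw [Subgroup.index_ker] at h2
  have heq : N.range = D.ker := by
    refine SetLike.coe_injective (Set.Finite.eq_of_subset_of_card_le (Set.toFinite _) hrange
      (le_of_eq ?_))
    have hpos : 0 < Nat.card D.range := Nat.card_pos
    refine Nat.eq_of_mul_eq_mul_left hpos ?_
    show Nat.card D.range * Nat.card D.ker = Nat.card D.range * Nat.card N.range
    rw [h1, mul_comm, h2]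
  have hmem : hh.unit ∈ N.range := by
    rw [heq]
    show hh.unit * (s hh.unit)⁻¹ = 1
    rw [mul_inv_eq_one]
    exact Units.ext hfix.symm
  obtain ⟨c, hc⟩ := hmem
  exact ⟨c, c.isUnit, congrArg Units.val hc⟩

end Commutative

section Anti

variable {M : Type*} [Ring M] [Finite M]

/-- A unit of a finite ring lying in a subring is a unit of that subring. -/
theorem isUnit_subring {S : Subring M} {x : S} (hx : IsUnit (x : M)) : IsUnit x := by
  obtain ⟨u, hu⟩ := hx
  obtain ⟨n, hn, hn1⟩ := (isOfFinOrder_of_finite u).exists_pow_eq_one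
  have h1 : x ^ n = 1 := Subtype.ext (by
    rw [SubmonoidClass.coe_pow, ← hu, ← Units.val_pow_eq_pow_val, hn1]; rfl)
  exact IsUnit.of_pow_eq_one h1 hn.ne'

variable (τ : M → M) (hadd : ∀ x y, τ (x + y) = τ x + τ y) (hmul : ∀ x y, τ (x * y) = τ y * τ x)
  (h1 : τ 1 = 1) (S : Set M) (hcomm : ∀ a ∈ S, ∀ b ∈ S, a * b = b * a)
  (hclos : ∀ a ∈ S, τ a ∈ Subring.closure S) (hinv : ∀ a ∈ S, τ (τ a) = a)

include hadd hmul h1 hcomm hclos hinv

/-- The subring generated by `S` is commutative and `τ` restricts to an involution of it. -/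
theorem exists_restrict :
    (∀ x y : Subring.closure S, x * y = y * x) ∧
      ∃ σ : Subring.closure S ≃+* Subring.closure S,
        (∀ x, σ (σ x) = x) ∧ ∀ x : Subring.closure S, ((σ x : Subring.closure S) : M) = τ x := by
  have h0 : τ 0 = 0 := by
    have := hadd 0 0
    rw [add_zero] at this
    exact left_eq_add.1 this
  have hneg : ∀ x, τ (-x) = -τ x := fun x => by
    rw [eq_neg_iff_add_eq_zero, ← hadd, neg_add_cancel, h0]
  have hcl : ∀ x ∈ Subring.closure S, τ x ∈ Subring.closure S ∧ τ (τ x) = x := by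
    intro x hx
    induction hx using Subring.closure_induction with
    | mem a ha => exact ⟨hclos a ha, hinv a ha⟩
    | zero => exact ⟨by rw [h0]; exact zero_mem _, by rw [h0, h0]⟩
    | one => exact ⟨by rw [h1]; exact one_mem _, by rw [h1, h1]⟩
    | add a b _ _ ha hb =>
      exact ⟨by rw [hadd]; exact add_mem ha.1 hb.1, by rw [hadd, hadd, ha.2, hb.2]⟩
    | neg a _ ha => exact ⟨by rw [hneg]; exact neg_mem ha.1, by rw [hneg, hneg, ha.2]⟩
    | mul a b _ _ ha hb =>
      exact ⟨by rw [hmul]; exact mul_mem hb.1 ha.1, by rw [hmul, hmul, ha.2, hb.2]⟩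
  have hc : ∀ x y : Subring.closure S, x * y = y * x :=
    (Subring.isMulCommutative_closure hcomm).is_comm.comm
  refine ⟨hc,
    { toFun := fun x => ⟨τ x, (hcl _ x.2).1⟩
      invFun := fun x => ⟨τ x, (hcl _ x.2).1⟩
      left_inv := fun x => Subtype.ext (hcl _ x.2).2
      right_inv := fun x => Subtype.ext (hcl _ x.2).2
      map_mul' := fun x y => ?_
      map_add' := fun x y => Subtype.ext (hadd _ _) },
    fun x => Subtype.ext (hcl _ x.2).2, fun x => rfl⟩
  have : (⟨τ (x * y : Subring.closure S), (hcl _ (x * y).2).1⟩ : Subring.closure S) =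
      ⟨τ y, (hcl _ y.2).1⟩ * ⟨τ x, (hcl _ x.2).1⟩ := Subtype.ext (hmul x y)
  exact this.trans (hc _ _)

/-- Hilbert 90 inside a finite ring with anti-automorphism. -/
theorem exists_isUnit_add_of_anti {lam : M} (hlS : lam ∈ Subring.closure S)
    (hlam : IsUnit (lam - τ lam)) {c : M} (hcS : c ∈ Subring.closure S) (hc : c * τ c = 1) :
    ∃ x ∈ Subring.closure S, IsUnit (x + c * τ x) := by
  obtain ⟨hcr, σ, hσ, hστ⟩ := exists_restrict τ hadd hmul h1 S hcomm hclos hinv
  letI : CommRing (Subring.closure S) := { (Subring.closure S).toRing with mul_comm := hcr }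
  obtain ⟨x, hx⟩ := exists_isUnit_add σ hσ (lam := ⟨lam, hlS⟩) (c := ⟨c, hcS⟩)
    (isUnit_subring (show IsUnit (lam - ((σ ⟨lam, hlS⟩ : Subring.closure S) : M)) by
      rw [hστ]; exact hlam))
    (Subtype.ext (show c * ((σ ⟨c, hcS⟩ : Subring.closure S) : M) = 1 by rw [hστ]; exact hc))
  refine ⟨x, x.2, ?_⟩
  have h2 := hx.map (Subring.closure S).subtype
  change IsUnit ((x : M) + c * ((σ x : Subring.closure S) : M)) at h2
  rwa [hστ] at h2

/-- Norms inside a finite ring with anti-automorphism. -/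
theorem exists_norm_eq_of_anti {lam : M} (hlS : lam ∈ Subring.closure S)
    (hlam : IsUnit (lam - τ lam)) {h : M} (hS : h ∈ Subring.closure S) (hh : IsUnit h)
    (hfix : τ h = h) :
    ∃ c ∈ Subring.closure S, IsUnit c ∧ c * τ c = h ∧ τ c * c = h := by
  obtain ⟨hcr, σ, hσ, hστ⟩ := exists_restrict τ hadd hmul h1 S hcomm hclos hinv
  letI : CommRing (Subring.closure S) := { (Subring.closure S).toRing with mul_comm := hcr }
  obtain ⟨c, hc, hch⟩ := exists_norm_eq σ hσ (lam := ⟨lam, hlS⟩) (h := ⟨h, hS⟩)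
    (isUnit_subring (show IsUnit (lam - ((σ ⟨lam, hlS⟩ : Subring.closure S) : M)) by
      rw [hστ]; exact hlam))
    (isUnit_subring (x := ⟨h, hS⟩) hh)
    (Subtype.ext (show ((σ ⟨h, hS⟩ : Subring.closure S) : M) = h by rw [hστ]; exact hfix))
  have hch' : (c : M) * ((σ c : Subring.closure S) : M) = h := congrArg Subtype.val hch
  have hch2 : ((σ c : Subring.closure S) : M) * (c : M) = h :=
    (congrArg Subtype.val (hcr (σ c) c)).trans hch'
  rw [hστ] at hch' hch2
  exact ⟨c, c.2, hc.map (Subring.closure S).subtype, hch', hch2⟩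

end Anti

end CfsgLib.InvNorm
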