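import Cfsg.Agent.InvNorm.Basic

/-!
# Norms of fixed units which are trivial on an idempotent
-/

namespace CfsgLib.InvNorm

/-- If `h` is the identity on the fixed idempotent `e` and `lam - σ lam` is a unit away from `e`,
then `h` is a norm. -/
theorem exists_norm_eq_of_idem {R : Type*} [CommRing R] [Finite R] (σ : R ≃+* R)
    (hσ : ∀ x, σ (σ x) = x) {e : R} (he : e * e = e) (hσe : σ e = e) {lam : R}
    (hlam : IsUnit ((lam - σ lam) * (1 - e) + e)) {h : R} (hh : IsUnit h) (hfix : σ h = h)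
    (hhe : h * e = e) :
    ∃ c : R, IsUnit c ∧ c * σ c = h := by
  let I : Ideal R := Ideal.span {e}
  let π : R →+* R ⧸ I := Ideal.Quotient.mk I
  have hI : I ≤ RingHom.ker (π.comp σ.toRingHom) := by
    rw [Ideal.span_le]
    intro x hx
    rw [Set.mem_singleton_iff.1 hx]
    show π (σ e) = 0
    rw [hσe]
    exact Ideal.Quotient.eq_zero_iff_mem.2 (Ideal.subset_span rfl)
  let σq : R ⧸ I →+* R ⧸ I := Ideal.Quotient.lift I (π.comp σ.toRingHom) hI
  have hσq : ∀ x, σq (π x) = π (σ x) := fun x => rfl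
  have hinv : ∀ y, σq (σq y) = y := by
    intro y
    obtain ⟨x, rfl⟩ := Ideal.Quotient.mk_surjective y
    rw [hσq, hσq, hσ]
  let σ' : R ⧸ I ≃+* R ⧸ I :=
    { σq with toFun := σq, invFun := σq, left_inv := hinv, right_inv := hinv }
  have he0 : π e = 0 := Ideal.Quotient.eq_zero_iff_mem.2 (Ideal.subset_span rfl)
  have hlq : IsUnit (π lam - σ' (π lam)) := by
    have := hlam.map π
    rw [map_add, map_mul, map_sub, map_sub, map_one, he0, sub_zero, mul_one, add_zero] at this
    exact this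
  haveI : Finite (R ⧸ I) := Finite.of_surjective π Ideal.Quotient.mk_surjective
  obtain ⟨c, -, hc⟩ := exists_norm_eq σ' hinv hlq (hh.map π) (congrArg π hfix)
  obtain ⟨c0, rfl⟩ := Ideal.Quotient.mk_surjective c
  have hc0 : π (c0 * σ c0) = π h := by rw [map_mul, ← hσq]; exact hc
  obtain ⟨t, ht⟩ := Ideal.mem_span_singleton'.1 (Ideal.Quotient.eq.1 hc0)
  have hnorm : (e + (1 - e) * c0) * σ (e + (1 - e) * c0) = h := by
    rw [map_add, map_mul, map_sub, map_one, hσe]
    linear_combination (1 - c0 - σ c0 + c0 * σ c0 - t) * he - hhe - (1 - e) * ht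
  exact ⟨e + (1 - e) * c0, isUnit_of_mul_isUnit_left (hnorm ▸ hh), hnorm⟩

variable {M : Type*} [Ring M] [Finite M]

/-- The same inside a finite ring with anti-automorphism. -/
theorem exists_norm_eq_of_anti_idem (τ : M → M) (hadd : ∀ x y, τ (x + y) = τ x + τ y)
    (hmul : ∀ x y, τ (x * y) = τ y * τ x) (h1 : τ 1 = 1) (S : Set M)
    (hcomm : ∀ a ∈ S, ∀ b ∈ S, a * b = b * a) (hclos : ∀ a ∈ S, τ a ∈ Subring.closure S)
    (hinv : ∀ a ∈ S, τ (τ a) = a) {e : M} (heS : e ∈ Subring.closure S) (he : e * e = e)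
    (hτe : τ e = e) {lam : M} (hlS : lam ∈ Subring.closure S)
    (hlam : IsUnit ((lam - τ lam) * (1 - e) + e)) {h : M} (hS : h ∈ Subring.closure S)
    (hh : IsUnit h) (hfix : τ h = h) (hhe : h * e = e) :
    ∃ c ∈ Subring.closure S, IsUnit c ∧ c * τ c = h ∧ τ c * c = h := by
  obtain ⟨hcr, σ, hσ, hστ⟩ := exists_restrict τ hadd hmul h1 S hcomm hclos hinv
  letI : CommRing (Subring.closure S) := { (Subring.closure S).toRing with mul_comm := hcr }
  obtain ⟨c, hc, hch⟩ := exists_norm_eq_of_idem σ hσ (e := ⟨e, heS⟩) (lam := ⟨lam, hlS⟩)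
    (h := ⟨h, hS⟩) (Subtype.ext he) (Subtype.ext ((hστ _).trans hτe))
    (isUnit_subring (show IsUnit ((lam - ((σ ⟨lam, hlS⟩ : Subring.closure S) : M)) * (1 - e) + e) by
      rw [hστ]; exact hlam))
    (isUnit_subring (x := ⟨h, hS⟩) hh) (Subtype.ext ((hστ _).trans hfix)) (Subtype.ext hhe)
  have hch' : (c : M) * ((σ c : Subring.closure S) : M) = h := congrArg Subtype.val hch
  have hch2 : ((σ c : Subring.closure S) : M) * (c : M) = h :=
    (congrArg Subtype.val (hcr (σ c) c)).trans hch'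
  rw [hστ] at hch' hch2
  exact ⟨c, c.2, hc.map (Subring.closure S).subtype, hch', hch2⟩

end CfsgLib.InvNorm
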