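import Cfsg.Agent.InvNorm.Semisimple
import Cfsg.Agent.Forms.SymplecticBasis

/-!
# Gluing: semisimple isometries of an alternating form that are `GL`-conjugate are conjugate by an
isometry
-/

namespace CfsgLib.InvNorm

open Matrix

variable {F : Type*} [Field F] {ι : Type*} [Fintype ι] [DecidableEq ι] {J : Matrix ι ι F}

/-- Alternating nondegenerate subspaces of equal dimension are isometric. -/
theorem exists_isometry_of_finrank_eq {V : Type*} [AddCommGroup V] [Module F V]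
    [FiniteDimensional F V] (B : LinearMap.BilinForm F V) (hB : B.IsAlt) (X Y : Submodule F V)
    (hX : ∀ x ∈ X, (∀ y ∈ X, B x y = 0) → x = 0) (hY : ∀ x ∈ Y, (∀ y ∈ Y, B x y = 0) → x = 0)
    (hd : Module.finrank F X = Module.finrank F Y) :
    ∃ φ : X ≃ₗ[F] Y, ∀ a b : X, B (φ a : V) (φ b : V) = B (a : V) (b : V) := by
  have hnd : ∀ W : Submodule F V, (∀ x ∈ W, (∀ y ∈ W, B x y = 0) → x = 0) →
      (B.restrict W).Nondegenerate := fun W hW =>
    ⟨fun x hx => Subtype.ext (hW x x.2 fun y hy => hx ⟨y, hy⟩),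
      fun x hx => Subtype.ext (hW x x.2 fun y hy => by
        rw [← LinearMap.IsAlt.neg hB, show B y x = 0 from hx ⟨y, hy⟩, neg_zero])⟩
  obtain ⟨m, b, b1, b2, b3⟩ := Forms.exists_symplectic_basis_nondeg (B.restrict X)
    (fun x => hB x) (hnd X hX)
  obtain ⟨m', b', c1, c2, c3⟩ := Forms.exists_symplectic_basis_nondeg (B.restrict Y)
    (fun x => hB x) (hnd Y hY)
  rw [Module.finrank_eq_card_basis b, Module.finrank_eq_card_basis b'] at hd
  simp only [Fintype.card_sum, Fintype.card_fin] at hd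
  obtain rfl : m = m' := by omega
  let φ := b.equiv b' (Equiv.refl _)
  have hφ : ∀ i, φ (b i) = b' i := fun i => b.equiv_apply i b' (Equiv.refl _)
  have key : (B.restrict Y).compl₁₂ φ.toLinearMap φ.toLinearMap = B.restrict X := by
    refine b.ext fun i => b.ext fun j => ?_
    simp only [LinearMap.compl₁₂_apply, LinearEquiv.coe_coe, hφ]
    rcases i with i | i <;> rcases j with j | j
    · rw [c2, b2]
    · rw [c1, b1]
    · have e1 := LinearMap.IsAlt.neg (B := B.restrict Y) (fun x => hB x) (b' (.inl j)) (b' (.inr i))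
      have e2 := LinearMap.IsAlt.neg (B := B.restrict X) (fun x => hB x) (b (.inl j)) (b (.inr i))
      rw [← e1, ← e2, c1, b1]
    · rw [c3, b3]
  exact ⟨φ, fun a c => LinearMap.congr_fun (LinearMap.congr_fun key a) c⟩

lemma form_sub_right (u v w : ι → F) :
    u ⬝ᵥ J *ᵥ (v - w) = u ⬝ᵥ J *ᵥ v - u ⬝ᵥ J *ᵥ w := by
  rw [mulVec_sub, dotProduct_sub]

lemma form_add_left (u v w : ι → F) :
    (u + v) ⬝ᵥ J *ᵥ w = u ⬝ᵥ J *ᵥ w + v ⬝ᵥ J *ᵥ w := add_dotProduct _ _ _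

lemma form_add_right (u v w : ι → F) :
    u ⬝ᵥ J *ᵥ (v + w) = u ⬝ᵥ J *ᵥ v + u ⬝ᵥ J *ᵥ w := by
  rw [mulVec_add, dotProduct_add]

/-- The `c`-eigenspace of a matrix. -/
def eig (A : Matrix ι ι F) (c : F) : Submodule F (ι → F) where
  carrier := {v | A *ᵥ v = c • v}
  add_mem' {a b} (ha : A *ᵥ a = c • a) (hb : A *ᵥ b = c • b) := by
    show A *ᵥ (a + b) = c • (a + b)
    rw [mulVec_add, ha, hb, smul_add]
  zero_mem' := by simp
  smul_mem' r v (hv : A *ᵥ v = c • v) := by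
    show A *ᵥ (r • v) = c • r • v
    rw [mulVec_smul, hv, smul_comm]

lemma mem_eig {A : Matrix ι ι F} {c : F} {v : ι → F} : v ∈ eig A c ↔ A *ᵥ v = c • v := Iff.rfl

variable {N : ℕ}

/-- Data attached to an isometry `A` with `A^N = 1`, `N` invertible. -/
structure SsIso (J : Matrix ι ι F) (N : ℕ) (A : Matrix ι ι F) : Prop where
  iso : Aᵀ * J * A = J
  pow_eq : A ^ N = 1
  cast_ne : (N : F) ≠ 0

namespace SsIso

variable {A : Matrix ι ι F} (h : SsIso J N A)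

include h

lemma sq_pow : (A * A) ^ N = 1 := by
  rw [(Commute.refl A).mul_pow, h.pow_eq, one_mul]

lemma form_map (u v : ι → F) : (A *ᵥ u) ⬝ᵥ J *ᵥ (A *ᵥ v) = u ⬝ᵥ J *ᵥ v := by
  conv_rhs => rw [← h.iso]
  rw [← mulVec_mulVec, ← mulVec_mulVec, dotProduct_mulVec u Aᵀ, vecMul_transpose]

lemma eig_orth {c d : F} (hcd : c * d ≠ 1) {v w : ι → F} (hv : v ∈ eig A c) (hw : w ∈ eig A d) :
    v ⬝ᵥ J *ᵥ w = 0 := by
  have e := h.form_map v w
  rw [mem_eig.1 hv, mem_eig.1 hw, mulVec_smul, smul_dotProduct, dotProduct_smul, smul_eq_mul,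
    smul_eq_mul, ← mul_assoc] at e
  have : (c * d - 1) * (v ⬝ᵥ J *ᵥ w) = 0 := by linear_combination e
  exact (mul_eq_zero.1 this).resolve_left (sub_ne_zero.2 hcd)

lemma proj_eig {c : F} (hc : c * c = 1) {v : ι → F} (hv : v ∈ eig A c) :
    proj N A *ᵥ v = v :=
  proj_mulVec_of_fixed h.cast_ne (by
    rw [← mulVec_mulVec, mem_eig.1 hv, mulVec_smul, mem_eig.1 hv, smul_smul, hc, one_smul])

lemma form_proj (hJ : IsUnit J.det) {ε : F} (hε : ε * ε = 1) (hT : Jᵀ = ε • J) (u v : ι → F) :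
    (proj N A *ᵥ u) ⬝ᵥ J *ᵥ v = u ⬝ᵥ J *ᵥ (proj N A *ᵥ v) := by
  rw [form_adj hJ, adj_proj hJ hε hT h.cast_ne h.sq_pow (adj_mul_self_of_isometry hJ h.iso)]

/-- Decomposition: away from `±1`, and the two eigenspaces (only one in characteristic two). -/
lemma exists_decomp (hodd : (2 : F) = 0 → Odd N) (x : ι → F) :
    ∃ p m : ι → F, p ∈ eig A 1 ∧ m ∈ eig A (-1) ∧ p + m = proj N A *ᵥ x ∧
      ((2 : F) = 0 → m = 0) := by
  set y := proj N A *ᵥ x with hy
  have hy2 : A *ᵥ (A *ᵥ y) = y := by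
    rw [mulVec_mulVec, hy, mulVec_mulVec, sq_mul_proj h.sq_pow]
  by_cases h2 : (2 : F) = 0
  · refine ⟨y, 0, ?_, Submodule.zero_mem _, add_zero _, fun _ => rfl⟩
    obtain ⟨k, hk⟩ := hodd h2
    have hpow : ∀ j : ℕ, (A ^ (2 * j)) *ᵥ y = y := by
      intro j
      induction j with
      | zero => simp
      | succ j ih =>
        rw [show 2 * (j + 1) = 2 * j + 1 + 1 by ring, pow_succ, pow_succ, ← mulVec_mulVec,
          ← mulVec_mulVec, hy2, ih]
    have e : (A ^ N) *ᵥ y = A *ᵥ y := by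
      rw [hk, pow_succ', ← mulVec_mulVec, hpow]
    rw [mem_eig, one_smul, ← e, h.pow_eq, one_mulVec]
  · refine ⟨(2 : F)⁻¹ • (y + A *ᵥ y), (2 : F)⁻¹ • (y - A *ᵥ y), ?_, ?_, ?_, fun h' => absurd h' h2⟩
    · rw [mem_eig, one_smul, mulVec_smul, mulVec_add, hy2, add_comm]
    · rw [mem_eig, mulVec_smul, mulVec_sub, hy2]
      module
    · rw [← smul_add, show y + A *ᵥ y + (y - A *ᵥ y) = (2 : F) • y by module, smul_smul,
        inv_mul_cancel₀ h2, one_smul]

/-- The eigenspaces for `±1` are nondegenerate. -/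
lemma eig_nondeg (hJ : IsUnit J.det) {ε : F} (hε : ε * ε = 1) (hT : Jᵀ = ε • J)
    (hodd : (2 : F) = 0 → Odd N) {c : F} (hc : c = 1 ∨ c = -1) {v : ι → F} (hv : v ∈ eig A c)
    (hv0 : ∀ w ∈ eig A c, v ⬝ᵥ J *ᵥ w = 0) : v = 0 := by
  have hcc : c * c = 1 := by rcases hc with rfl | rfl <;> simp
  have hall : ∀ x, v ⬝ᵥ J *ᵥ x = 0 := by
    intro x
    obtain ⟨p, q, hp, hq, hsum, hq0⟩ := h.exists_decomp hodd x
    have hvx : v ⬝ᵥ J *ᵥ x = v ⬝ᵥ J *ᵥ (p + q) := by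
      rw [hsum, ← h.form_proj hJ hε hT, h.proj_eig hcc hv]
    rw [hvx, form_add_right]
    by_cases h2 : (2 : F) = 0
    · have h1 : (-1 : F) = 1 := by linear_combination -h2
      obtain rfl : c = 1 := hc.elim id (fun e => e.trans h1)
      rw [hv0 p hp, hq0 h2, mulVec_zero, dotProduct_zero, add_zero]
    · have h1 : (-1 : F) ≠ 1 := fun e => h2 (by linear_combination -e)
      rcases hc with rfl | rfl
      · rw [hv0 p hp, h.eig_orth (by rwa [one_mul]) hv hq, add_zero]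
      · rw [hv0 q hq, h.eig_orth (by rwa [mul_one]) hv hp, add_zero]
  have hker : Jᵀ *ᵥ v = 0 := by
    funext i
    have := hall (Pi.single i 1)
    rw [dotProduct_mulVec, dotProduct_single, mul_one] at this
    rw [mulVec_transpose]
    exact this
  have := congrArg ((Jᵀ)⁻¹ *ᵥ ·) hker
  simpa [mulVec_mulVec, nonsing_inv_mul _ (show IsUnit Jᵀ.det by rwa [det_transpose])] using this

end SsIso

/-- **Semisimple conjugacy in the isometry group of an alternating form.** -/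
theorem exists_conj_alternating [Finite F] (hJ : IsUnit J.det) (hT : Jᵀ = -J)
    (halt : ∀ v, v ⬝ᵥ J *ᵥ v = 0) {A B G : Matrix ι ι F} (hA : SsIso J N A)
    (hBiso : Bᵀ * J * B = J) (hodd : (2 : F) = 0 → Odd N) (hG : IsUnit G)
    (hGA : G * A = B * G) :
    ∃ K : Matrix ι ι F, Kᵀ * J * K = J ∧ K * A = B * K := by
  have hε : (-1 : F) * -1 = 1 := by ring
  have hT' : Jᵀ = (-1 : F) • J := by rw [hT, neg_one_smul]
  have hpw : ∀ k : ℕ, G * A ^ k = B ^ k * G := fun k => by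
    induction k with
    | zero => simp
    | succ k ih => rw [pow_succ, ← mul_assoc, ih, mul_assoc, hGA, ← mul_assoc, ← pow_succ]
  have hB : SsIso J N B := ⟨hBiso, by
    have := hpw N
    rw [hA.pow_eq, mul_one] at this
    exact (hG.mul_eq_right).1 this.symm, hA.cast_ne⟩
  obtain ⟨U, hU, hUA, hUf⟩ :=
    exists_intertwiner hJ hε hT' hA.iso hBiso hG hGA hA.cast_ne hA.sq_pow
  have hUP : ∀ x, proj N B *ᵥ (U *ᵥ x) = U *ᵥ (proj N A *ᵥ x) := by
    have hpow : ∀ k, U * (A * A) ^ k = (B * B) ^ k * U := fun k => by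
      induction k with
      | zero => simp
      | succ k ih =>
        rw [pow_succ, ← mul_assoc, ih, pow_succ, mul_assoc, mul_assoc, ← mul_assoc U A A, hUA,
          mul_assoc B U A, hUA]
        simp only [mul_assoc]
    intro x
    rw [mulVec_mulVec, mulVec_mulVec]
    congr 1
    simp only [proj, smul_mul_assoc, mul_smul_comm, Finset.sum_mul, Finset.mul_sum, hpow]
  -- isometries between corresponding eigenspaces
  have hφ : ∀ c : F, c = 1 ∨ c = -1 → ∃ f : (ι → F) →ₗ[F] (ι → F),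
      ∀ v ∈ eig A c, f v ∈ eig B c ∧ ∀ w ∈ eig A c, f v ⬝ᵥ J *ᵥ f w = v ⬝ᵥ J *ᵥ w := by
    intro c hc
    let g : (ι → F) ≃ₗ[F] (ι → F) := Matrix.toLinearEquiv' G hG.invertible
    have hg : ∀ v, g v = G *ᵥ v := fun v => rfl
    have hmap : (eig A c).map (g : (ι → F) →ₗ[F] (ι → F)) = eig B c := by
      refine le_antisymm ?_ fun w hw => ?_
      · rintro _ ⟨v, hv, rfl⟩
        show B *ᵥ g v = c • g v
        rw [hg, mulVec_mulVec, ← hGA, ← mulVec_mulVec, mem_eig.1 hv, mulVec_smul]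
      · refine ⟨g.symm w, ?_, g.apply_symm_apply w⟩
        show A *ᵥ g.symm w = c • g.symm w
        apply g.injective
        rw [map_smul, g.apply_symm_apply, hg, mulVec_mulVec, hGA, ← mulVec_mulVec, ← hg,
          g.apply_symm_apply]
        exact mem_eig.1 hw
    have hd : Module.finrank F (eig A c) = Module.finrank F (eig B c) := by
      rw [← hmap, LinearEquiv.finrank_map_eq]
    obtain ⟨φ, hφ⟩ := exists_isometry_of_finrank_eq (Matrix.toBilin' J)
      (fun v => by rw [Matrix.toBilin'_apply']; exact halt v) (eig A c) (eig B c)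
      (fun x hx h0 => hA.eig_nondeg hJ hε hT' hodd hc hx fun w hw => by
        simpa [Matrix.toBilin'_apply'] using h0 w hw)
      (fun x hx h0 => hB.eig_nondeg hJ hε hT' hodd hc hx fun w hw => by
        simpa [Matrix.toBilin'_apply'] using h0 w hw) hd
    obtain ⟨f, hf⟩ := LinearMap.exists_extend ((eig B c).subtype ∘ₗ φ.toLinearMap)
    have hf' : ∀ x : eig A c, f x = (φ x : ι → F) := fun x => LinearMap.congr_fun hf x
    refine ⟨f, fun v hv => ⟨(hf' ⟨v, hv⟩) ▸ (φ ⟨v, hv⟩).2, fun w hw => ?_⟩⟩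
    rw [hf' ⟨v, hv⟩, hf' ⟨w, hw⟩]
    simpa [Matrix.toBilin'_apply'] using hφ ⟨v, hv⟩ ⟨w, hw⟩
  obtain ⟨f1, hf1⟩ := hφ 1 (Or.inl rfl)
  obtain ⟨f2, hf2⟩ := hφ (-1) (Or.inr rfl)
  -- the two projections as matrices
  obtain ⟨Pp, Pm, hPsum, hPp, hPm, hPm0⟩ : ∃ Pp Pm : Matrix ι ι F, Pp + Pm = proj N A ∧
      (∀ x, Pp *ᵥ x ∈ eig A 1) ∧ (∀ x, Pm *ᵥ x ∈ eig A (-1)) ∧ ((2 : F) = 0 → Pm = 0) := by
    have hA2 : A * (A * proj N A) = proj N A := by rw [← mul_assoc, sq_mul_proj hA.sq_pow]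
    by_cases h2 : (2 : F) = 0
    · refine ⟨proj N A, 0, add_zero _, fun x => ?_, fun x => by simp, fun _ => rfl⟩
      obtain ⟨p, q, hp, -, hsum, hq0⟩ := hA.exists_decomp hodd x
      rw [← hsum, hq0 h2, add_zero]
      exact hp
    · refine ⟨(2 : F)⁻¹ • (proj N A + A * proj N A), (2 : F)⁻¹ • (proj N A - A * proj N A),
        ?_, fun x => ?_, fun x => ?_, fun h' => absurd h' h2⟩
      · rw [← smul_add, show proj N A + A * proj N A + (proj N A - A * proj N A)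
          = (2 : F) • proj N A by module, smul_smul, inv_mul_cancel₀ h2, one_smul]
      · rw [mem_eig, one_smul, mulVec_mulVec, mul_smul_comm, mul_add, hA2, add_comm]
      · rw [mem_eig, mulVec_mulVec, mul_smul_comm, mul_sub, hA2, ← smul_mulVec]
        congr 1
        module
  let L : (ι → F) →ₗ[F] (ι → F) :=
    U.mulVecLin ∘ₗ (1 - proj N A).mulVecLin + f1 ∘ₗ Pp.mulVecLin + f2 ∘ₗ Pm.mulVecLin
  have hL : ∀ x, L x = U *ᵥ ((1 - proj N A) *ᵥ x) + f1 (Pp *ᵥ x) + f2 (Pm *ᵥ x) := fun x => rfl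
  have hx0 : ∀ x, proj N A *ᵥ ((1 - proj N A) *ᵥ x) = 0 := fun x => by
    rw [mulVec_mulVec, mul_sub, mul_one, proj_mul_proj hA.cast_ne hA.sq_pow, sub_self, zero_mulVec]
  -- orthogonality of the pieces
  have skew : ∀ u v, u ⬝ᵥ J *ᵥ v = -(v ⬝ᵥ J *ᵥ u) := by
    intro u v
    conv_rhs => rw [dotProduct_comm, dotProduct_comm, dotProduct_mulVec, dotProduct_comm,
      ← mulVec_transpose, hT, neg_mulVec, dotProduct_neg, neg_neg]
  have orth0 : ∀ {c : F} {a w : ι → F}, c * c = 1 → proj N A *ᵥ a = 0 → w ∈ eig A c →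
      a ⬝ᵥ J *ᵥ w = 0 := by
    intro c a w hc ha hw
    rw [← hA.proj_eig hc hw, ← hA.form_proj hJ hε hT', ha, zero_dotProduct]
  have orthU : ∀ {c : F} {a w : ι → F}, c * c = 1 → proj N A *ᵥ a = 0 → w ∈ eig B c →
      (U *ᵥ a) ⬝ᵥ J *ᵥ w = 0 := by
    intro c a w hc ha hw
    rw [← hB.proj_eig hc hw, ← hB.form_proj hJ hε hT', hUP, ha, mulVec_zero, zero_dotProduct]
  have hiso : ∀ x y, L x ⬝ᵥ J *ᵥ L y = x ⬝ᵥ J *ᵥ y := by
    intro x y
    set a := (1 - proj N A) *ᵥ x with hadef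
    set b := (1 - proj N A) *ᵥ y with hbdef
    have hxd : x = a + Pp *ᵥ x + Pm *ᵥ x := by
      rw [hadef, add_assoc, ← add_mulVec, ← add_mulVec, hPsum, sub_add_cancel, one_mulVec]
    have hyd : y = b + Pp *ᵥ y + Pm *ᵥ y := by
      rw [hbdef, add_assoc, ← add_mulVec, ← add_mulVec, hPsum, sub_add_cancel, one_mulVec]
    conv_rhs => rw [hxd, hyd]
    rw [hL, hL, ← hadef, ← hbdef]
    have one_one : (1 : F) * 1 = 1 := one_mul 1
    obtain ⟨P1, P1'⟩ := hf1 _ (hPp x)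
    obtain ⟨Q1, -⟩ := hf1 _ (hPp y)
    obtain ⟨P2, P2'⟩ := hf2 _ (hPm x)
    obtain ⟨Q2, -⟩ := hf2 _ (hPm y)
    have c12 : ∀ {M : Matrix ι ι F}, SsIso J N M → ∀ {v w : ι → F}, v ∈ eig M 1 → w ∈ eig M (-1) →
        ((2 : F) = 0 → w = 0) → v ⬝ᵥ J *ᵥ w = 0 := by
      intro M hM v w hv hw hw0
      by_cases h2 : (2 : F) = 0
      · rw [hw0 h2, mulVec_zero, dotProduct_zero]
      · exact hM.eig_orth (fun e => h2 (by linear_combination -e)) hv hw
    have z2x : (2 : F) = 0 → Pm *ᵥ x = 0 := fun h2 => by rw [hPm0 h2, zero_mulVec]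
    have z2y : (2 : F) = 0 → Pm *ᵥ y = 0 := fun h2 => by rw [hPm0 h2, zero_mulVec]
    simp only [form_add_left, form_add_right]
    rw [hUf a b (hx0 y), P1' _ (hPp y), P2' _ (hPm y),
      orthU one_one (hx0 x) Q1, orthU hε (hx0 x) Q2,
      skew (f1 (Pp *ᵥ x)) (U *ᵥ b), orthU one_one (hx0 y) P1,
      skew (f2 (Pm *ᵥ x)) (U *ᵥ b), orthU hε (hx0 y) P2,
      c12 hB P1 Q2 (fun h2 => by rw [z2y h2, map_zero]),
      skew (f2 (Pm *ᵥ x)) (f1 (Pp *ᵥ y)), c12 hB Q1 P2 (fun h2 => by rw [z2x h2, map_zero]),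
      orth0 one_one (hx0 x) (hPp y), orth0 hε (hx0 x) (hPm y),
      skew (Pp *ᵥ x) b, orth0 one_one (hx0 y) (hPp x),
      skew (Pm *ᵥ x) b, orth0 hε (hx0 y) (hPm x),
      c12 hA (hPp x) (hPm y) z2y,
      skew (Pm *ᵥ x) (Pp *ᵥ y), c12 hA (hPp y) (hPm x) z2x]
  refine ⟨LinearMap.toMatrix' L, ?_, ?_⟩
  · apply Matrix.toBilin'.injective
    refine LinearMap.ext fun x => LinearMap.ext fun y => ?_
    rw [Matrix.toBilin'_apply', Matrix.toBilin'_apply', ← mulVec_mulVec, ← mulVec_mulVec,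
      dotProduct_mulVec x _, vecMul_transpose, LinearMap.toMatrix'_mulVec,
      LinearMap.toMatrix'_mulVec, hiso]
  · refine Matrix.ext_iff_mulVec.2 fun x => ?_
    rw [← mulVec_mulVec, ← mulVec_mulVec, LinearMap.toMatrix'_mulVec, LinearMap.toMatrix'_mulVec]
    have hPA : ∀ P : Matrix ι ι F, ∀ c : F, Commute A P → (∀ z, P *ᵥ z ∈ eig A c) →
        P *ᵥ (A *ᵥ x) = c • (P *ᵥ x) := fun P c hP hPe => by
      rw [mulVec_mulVec, ← hP.eq, ← mulVec_mulVec, mem_eig.1 (hPe x)]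
    have hcP : Commute A (proj N A) := commute_proj (Commute.refl A)
    have key : Pp *ᵥ (A *ᵥ x) = Pp *ᵥ x ∧ Pm *ᵥ (A *ᵥ x) = -(Pm *ᵥ x) := by
      have hsum : Pp *ᵥ (A *ᵥ x) + Pm *ᵥ (A *ᵥ x) = Pp *ᵥ x + -(Pm *ᵥ x) := by
        rw [← add_mulVec, hPsum, mulVec_mulVec, ← hcP.eq, ← mulVec_mulVec, ← hPsum, add_mulVec,
          mulVec_add, mem_eig.1 (hPp x), mem_eig.1 (hPm x), one_smul, neg_one_smul]
      by_cases h2 : (2 : F) = 0
      · rw [hPm0 h2] at hsum ⊢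
        exact ⟨by simpa using hsum, by simp⟩
      · -- separate by applying `A`
        have hA1 := congrArg (A *ᵥ ·) hsum
        simp only [mulVec_add, mulVec_neg, mem_eig.1 (hPp _), mem_eig.1 (hPm _), one_smul,
          neg_one_smul, neg_neg] at hA1
        have h3 : (2 : F) • (Pp *ᵥ (A *ᵥ x)) = (2 : F) • (Pp *ᵥ x) := by
          linear_combination (norm := module) hsum + hA1
        have h4 := smul_right_injective _ h2 h3
        exact ⟨h4, by rw [h4] at hsum; exact add_left_cancel hsum⟩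
    rw [hL, hL, key.1, key.2, map_neg, mulVec_add, mulVec_add, mem_eig.1 (hf1 _ (hPp x)).1,
      mem_eig.1 (hf2 _ (hPm x)).1, one_smul, neg_one_smul]
    congr 2
    rw [mulVec_mulVec _ B U, ← hUA, mulVec_mulVec, mulVec_mulVec, mulVec_mulVec, mul_assoc,
      ((Commute.one_right A).sub_right hcP).eq.symm]
    simp only [mul_assoc]

end CfsgLib.InvNorm
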